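import Groth.Agent.GaAlpha87.Split
import Groth.Agent.S13356
import Groth.Agent.S13357
import Mathlib.RingTheory.AdjoinRoot
import Mathlib.RingTheory.Nilpotent.Exp

/-!
# Multiplicative natural families on characters of the additive group are evaluations
-/

set_option autoImplicit false
set_option linter.unusedSectionVars false

universe u

open Polynomial
open Groth.Agent.GaExt Groth.Agent.GaAlpha87

namespace Groth.Agent.GaBid87

variable {A : Type u} [CommRing A]

/-- Polynomial characters of the additive group. -/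
def IsCh {D : Type u} [CommRing D] (P : D[X]) : Prop :=
  P.eval 0 = 1 ∧ Polynomial.aeval (MvPolynomial.X 0 + MvPolynomial.X 1 : MvPolynomial (Fin 2) D) P =
    Polynomial.aeval (MvPolynomial.X 0 : MvPolynomial (Fin 2) D) P *
      Polynomial.aeval (MvPolynomial.X 1 : MvPolynomial (Fin 2) D) P

theorem IsCh.one {D : Type u} [CommRing D] : IsCh (1 : D[X]) := ⟨eval_one, by simp⟩

theorem IsCh.mul {D : Type u} [CommRing D] {P Q : D[X]} (hP : IsCh P) (hQ : IsCh Q) : IsCh (P * Q) :=
  ⟨by rw [eval_mul, hP.1, hQ.1, _root_.one_mul], by rw [map_mul, map_mul, map_mul, hP.2, hQ.2]; ring⟩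

theorem IsCh.of_subsingleton {D : Type u} [CommRing D] [Subsingleton D] (P : D[X]) : IsCh P :=
  ⟨Subsingleton.elim _ _, Subsingleton.elim _ _⟩

theorem IsCh.eval_add {D : Type u} [CommRing D] {P : D[X]} (hP : IsCh P) {B : Type u} [CommRing B] (g : D →+* B)
    (a b : B) : P.eval₂ g (a + b) = P.eval₂ g a * P.eval₂ g b := by
  have h := congrArg (MvPolynomial.eval₂Hom g ![a, b]) hP.2
  have e : ∀ Z : MvPolynomial (Fin 2) D, MvPolynomial.eval₂Hom g ![a, b] (Polynomial.aeval Z P) =
      P.eval₂ g (MvPolynomial.eval₂Hom g ![a, b] Z) := fun Z => by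
    rw [Polynomial.aeval_def, Polynomial.hom_eval₂]
    congr 1
    ext r
    simp
  rw [map_mul, e, e, e, map_add] at h
  simpa using h

theorem IsCh.eval_mul_neg {D : Type u} [CommRing D] {P : D[X]} (hP : IsCh P) (a : D) :
    P.eval a * P.eval (-a) = 1 := by
  have h := hP.eval_add (RingHom.id D) a (-a)
  rw [add_neg_cancel, eval₂_id, eval₂_id, eval₂_id, hP.1] at h
  exact h.symm

theorem IsCh.map {D D' : Type u} [CommRing D] [CommRing D'] {P : D[X]} (hP : IsCh P) (f : D →+* D') :
    IsCh (P.map f) := by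
  have h0 : (P.map f).eval 0 = 1 := by rw [← map_zero f, eval_map_apply, hP.1, map_one]
  refine ⟨h0, ?_⟩
  rw [aeval_def, aeval_def, aeval_def, eval₂_map, eval₂_map, eval₂_map]
  exact hP.eval_add _ _ _

/-- A natural multiplicative family of functions on characters. -/
structure Fam (A : Type u) [CommRing A] where
  /-- The values. -/
  F : ∀ (D : Type u) [CommRing D] [Algebra A D], D[X] → D
  nat : ∀ {D D' : Type u} [CommRing D] [Algebra A D] [CommRing D'] [Algebra A D'] (f : D →ₐ[A] D') (P : D[X]),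
    IsCh P → f (F D P) = F D' (P.map f.toRingHom)
  mul : ∀ {D : Type u} [CommRing D] [Algebra A D] (P Q : D[X]), IsCh P → IsCh Q → F D (P * Q) = F D P * F D Q
  one : ∀ {D : Type u} [CommRing D] [Algebra A D], F D (1 : D[X]) = 1

/-- The family twisted by an evaluation. -/
noncomputable def Fam.twist (Φ : Fam A) (t : A) : Fam A where
  F D _ _ P := Φ.F D P * P.eval (-algebraMap A D t)
  nat {D D'} _ _ _ _ f P hP := by
    rw [map_mul, Φ.nat f P hP, ← f.commutes t, ← map_neg f (algebraMap A D t)]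
    exact congrArg (_ * ·) (eval_map_apply f.toRingHom _).symm
  mul P Q hP hQ := by simp only [Φ.mul P Q hP hQ, eval_mul]; ring
  one := by simp [Φ.one]

theorem coeff_prod (G : A[X]) (i j : ℕ) :
    (aeval (MvPolynomial.X 0 : MvPolynomial (Fin 2) A) G * aeval (MvPolynomial.X 1 : MvPolynomial (Fin 2) A) G).coeff
      (m2 i j) = G.coeff i * G.coeff j := by
  classical
  have key : ∀ G' : A[X], (aeval (MvPolynomial.X 0 : MvPolynomial (Fin 2) A) G' *
      aeval (MvPolynomial.X 1 : MvPolynomial (Fin 2) A) G).coeff (m2 i j) = G'.coeff i * G.coeff j := fun G' => by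
    induction G' using Polynomial.induction_on' with
    | add a b ha hb => rw [map_add, add_mul, MvPolynomial.coeff_add, ha, hb, Polynomial.coeff_add, add_mul]
    | monomial k c =>
      induction G using Polynomial.induction_on' with
      | add a b ha hb => rw [map_add, mul_add, MvPolynomial.coeff_add, ha, hb, Polynomial.coeff_add, mul_add]
      | monomial l d =>
        rw [aeval_monomial, aeval_monomial, MvPolynomial.algebraMap_eq, mul_mul_mul_comm, ← map_mul, monomial_m2,
          MvPolynomial.coeff_C_mul, MvPolynomial.coeff_monomial, Polynomial.coeff_monomial, Polynomial.coeff_monomial]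
        simp only [m2_inj]
        split_ifs <;> simp_all
  exact key G

theorem coeff_sum' (G : A[X]) (i j : ℕ) :
    (aeval (MvPolynomial.X 0 + MvPolynomial.X 1 : MvPolynomial (Fin 2) A) G).coeff (m2 i j) =
      ((i + j).choose i : A) * G.coeff (i + j) := by
  classical
  induction G using Polynomial.induction_on' with
  | add a b ha hb => rw [map_add, MvPolynomial.coeff_add, ha, hb, Polynomial.coeff_add, mul_add]
  | monomial k c =>
    rw [aeval_monomial, MvPolynomial.algebraMap_eq, MvPolynomial.coeff_C_mul, add_pow, MvPolynomial.coeff_sum,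
      Polynomial.coeff_monomial]
    have e : ∀ l, (MvPolynomial.X 0 : MvPolynomial (Fin 2) A) ^ l * MvPolynomial.X 1 ^ (k - l) *
        (k.choose l : MvPolynomial (Fin 2) A) = MvPolynomial.C (k.choose l : A) * MvPolynomial.monomial (m2 l (k - l)) 1 :=
      fun l => by rw [← monomial_m2, map_natCast]; ring
    simp only [e, MvPolynomial.coeff_C_mul, MvPolynomial.coeff_monomial, m2_inj]
    by_cases hk : k = i + j
    · subst hk
      rw [if_pos rfl, Finset.sum_eq_single i (fun l _ hl => by simp [hl])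
        (fun hl => absurd (Finset.mem_range.2 (by omega)) hl), if_pos (by omega)]
      ring
    · rw [if_neg hk, Finset.sum_eq_zero (fun l hl => ?_), mul_zero, mul_zero]
      rw [if_neg (fun hl' => hk (by have := Finset.mem_range.1 hl; omega)), mul_zero]

/-- Normalised truncated exponential sequences are trivial. -/
theorem coeff_eq_zero {N : ℕ} (hN : ∀ i, 0 < i → i < N → IsUnit (i : A)) (G : A[X]) (h1 : G.coeff 1 = 0)
    (hrel : aeval (MvPolynomial.X 0 : MvPolynomial (Fin 2) A) G * aeval (MvPolynomial.X 1 : MvPolynomial (Fin 2) A) G -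
      aeval (MvPolynomial.X 0 + MvPolynomial.X 1 : MvPolynomial (Fin 2) A) G ∈
        MvPolynomial.idealOfVars (Fin 2) A ^ N ⊔ box A (Fin 2) N) :
    ∀ i, 0 < i → i < N → G.coeff i = 0 := by
  intro i hi hiN
  obtain ⟨d, rfl⟩ : ∃ d, N = d + 1 := ⟨N - 1, by omega⟩
  have h := coeff_eq_zero_of_mem hrel (m := m2 1 (i - 1)) (by rw [degree_m2]; omega)
    (fun k => by fin_cases k <;> simp <;> omega)
  rw [MvPolynomial.coeff_sub, coeff_prod, coeff_sum', h1, zero_mul, zero_sub, neg_eq_zero,
    show 1 + (i - 1) = i by omega, Nat.choose_one_right] at h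
  exact (hN i hi hiN).mul_right_eq_zero.1 h

/-- The universal element killed by the `N`-th power. -/
abbrev Dc (A : Type u) [CommRing A] (N : ℕ) : Type u := AdjoinRoot ((X : A[X]) ^ N)

theorem root_pow (N : ℕ) : AdjoinRoot.root ((X : A[X]) ^ N) ^ N = 0 := by
  have h : AdjoinRoot.mk ((X : A[X]) ^ N) (X ^ N) = 0 := AdjoinRoot.mk_self
  rwa [map_pow, AdjoinRoot.mk_X] at h

/-- A point of the universal element. -/
noncomputable def toD {N : ℕ} {D : Type u} [CommRing D] [Algebra A D] (d : D) (hd : d ^ N = 0) : Dc A N →ₐ[A] D :=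
  AdjoinRoot.liftAlgHom ((X : A[X]) ^ N) (Algebra.ofId A D) d (by rw [eval₂_X_pow]; exact hd)

theorem toD_mk {N : ℕ} {D : Type u} [CommRing D] [Algebra A D] (d : D) (hd : d ^ N = 0) (G : A[X]) :
    toD d hd (AdjoinRoot.mk _ G) = aeval d G := AdjoinRoot.liftAlgHom_mk _ _ _ _ _

theorem toD_root {N : ℕ} {D : Type u} [CommRing D] [Algebra A D] (d : D) (hd : d ^ N = 0) :
    toD d hd (AdjoinRoot.root ((X : A[X]) ^ N)) = d := AdjoinRoot.liftAlgHom_root _ _ _ _

theorem map_eq_zero_of_mem {B S : Type*} [CommRing B] [CommRing S] {J : Ideal B} {n m : ℕ} (hJ : J ^ n = ⊥)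
    (f : MvPolynomial (Fin 2) S →+* B[X]) (hX : ∀ i, ∃ c r, c ∈ J ∧ f (MvPolynomial.X i) = C c * r) (hnm : n ≤ m)
    {z : MvPolynomial (Fin 2) S} (hz : z ∈ MvPolynomial.idealOfVars (Fin 2) S ^ m) : f z = 0 := by
  have h := Ideal.mem_map_of_mem f hz
  rw [Ideal.map_pow] at h
  have hle : (MvPolynomial.idealOfVars (Fin 2) S).map f ≤ J.map C := by
    rw [MvPolynomial.idealOfVars, Ideal.map_span, Ideal.span_le]
    rintro _ ⟨_, ⟨i, rfl⟩, rfl⟩
    obtain ⟨c, r, hc, hcr⟩ := hX i
    show f (MvPolynomial.X i) ∈ _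
    rw [hcr]
    exact Ideal.mul_mem_right _ _ (Ideal.mem_map_of_mem _ hc)
  have h' := Ideal.pow_right_mono hle m h
  rw [← Ideal.map_pow, eq_bot_iff.2 ((Ideal.pow_le_pow_right hnm).trans hJ.le), Ideal.map_bot, Ideal.mem_bot] at h'
  exact h'

section CharP

variable (p : ℕ) [hp : Fact p.Prime]

/-- Integers inverting factorials modulo `p`. -/
def invFac (j : ℕ) : ℤ := Nat.gcdA j.factorial p

include hp in
theorem invFac_mul {B : Type u} [CommRing B] (h0 : (p : B) = 0) {j : ℕ} (hj : j < p) :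
    (invFac p j : B) * (j.factorial : B) = 1 := by
  have hco : Nat.gcd j.factorial p = 1 :=
    (hp.out.coprime_iff_not_dvd.2 fun h => absurd (hp.out.dvd_factorial.1 h) (by omega)).symm
  have h := congrArg (Int.cast : ℤ → B) (Nat.gcd_eq_gcd_ab j.factorial p)
  rw [hco] at h
  push_cast at h
  rw [h0, zero_mul, add_zero] at h
  rw [invFac, _root_.mul_comm]
  exact h.symm

/-- The truncated exponential. -/
noncomputable def ee {B : Type u} [CommRing B] (z : B) : B :=
  ∑ j ∈ Finset.range p, (invFac p j : B) * z ^ j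

theorem map_ee {B B' : Type u} [CommRing B] [CommRing B'] (f : B →+* B') (z : B) : f (ee p z) = ee p (f z) := by
  simp [ee, map_sum]

include hp in
theorem ah_eq_ee {B : Type u} [CommRing B] (ρ : ℤ_[p] →+* B) (h0 : (p : B) = 0) {t : B} (ht : t ^ p = 0) :
    ah p ρ t = ee p t := by
  rw [ah, ee, ← Finset.sum_subset (Finset.range_mono (show p ≤ 2 * p by omega)) (fun j _ hj => ?_)]
  · refine Finset.sum_congr rfl fun j hj => ?_
    rw [Finset.mem_range] at hj
    have hu : IsUnit (j.factorial : ℤ_[p]) := by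
      rw [PadicInt.isUnit_iff, PadicInt.norm_natCast_eq_one_iff]
      exact hp.out.coprime_iff_not_dvd.mpr fun hd => absurd ((Nat.Prime.dvd_factorial hp.out).mp hd) (by omega)
    have h1 : ρ (Ring.inverse (j.factorial : ℤ_[p])) * (j.factorial : B) = 1 := by
      rw [← map_natCast ρ, ← map_mul, Ring.inverse_mul_cancel _ hu, map_one]
    rw [ahCoeff, dif_neg (by omega)]
    congr 1
    have h2 := invFac_mul p (B := B) h0 hj
    linear_combination ρ (Ring.inverse (j.factorial : ℤ_[p])) * (-1 : B) * h2 + (invFac p j : B) * h1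
  · rw [Finset.mem_range, not_lt] at hj
    rw [pow_eq_zero_of_le hj ht, mul_zero]

include hp in
theorem ee_eq_one_add {B : Type u} [CommRing B] (h0 : (p : B) = 0) {z : B} (hz : z ^ 2 = 0) : ee p z = 1 + z := by
  have h2 := hp.out.two_le
  rw [ee, ← Finset.sum_subset (Finset.range_mono h2) (fun j _ hj => ?_)]
  · have i0 := invFac_mul p (B := B) h0 (show 0 < p by omega)
    have i1 := invFac_mul p (B := B) h0 (show 1 < p by omega)
    simp only [Nat.factorial_zero, Nat.factorial_one, Nat.cast_one, _root_.mul_one] at i0 i1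
    simp [Finset.sum_range_succ, i0, i1]
  · rw [Finset.mem_range, not_lt] at hj
    rw [pow_eq_zero_of_le hj hz, mul_zero]

variable [CharP A p]

theorem natCast_zero (D : Type u) [CommRing D] [Algebra A D] : (p : D) = 0 := by
  rw [← map_natCast (algebraMap A D), CharP.cast_eq_zero, map_zero]

/-- The basic characters. -/
noncomputable def Ech {D : Type u} [CommRing D] (s : ℕ) (d : D) : D[X] := ee p (C d * X ^ p ^ s)

theorem map_Ech {D D' : Type u} [CommRing D] [CommRing D'] (f : D →+* D') (s : ℕ) (d : D) :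
    (Ech p s d).map f = Ech p s (f d) := by
  rw [Ech, Ech, ← coe_mapRingHom, map_ee, map_mul, map_pow]
  simp

theorem eval_Ech {D : Type u} [CommRing D] (s : ℕ) (d z : D) : (Ech p s d).eval z = ee p (d * z ^ p ^ s) := by
  rw [Ech, ← coe_evalRingHom, map_ee]
  simp

include hp in
theorem Ech_eq {D : Type u} [CommRing D] (h0 : (p : D) = 0) (s : ℕ) (d : D) :
    Ech p s d = ∑ j ∈ Finset.range p, C (Ring.inverse (j.factorial : D) * d ^ j) * X ^ (j * p ^ s) := by
  rw [Ech, ee]
  refine Finset.sum_congr rfl fun j hj => ?_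
  have h := invFac_mul p (B := D) h0 (Finset.mem_range.1 hj)
  have hinv : Ring.inverse (j.factorial : D) = (invFac p j : D) := by
    have hu : IsUnit (j.factorial : D) := IsUnit.of_mul_eq_one_right _ h
    linear_combination (invFac p j : D) * Ring.mul_inverse_cancel _ hu - Ring.inverse (j.factorial : D) * h
  rw [hinv, mul_pow, ← pow_mul, _root_.mul_comm (p ^ s) j, map_mul, map_pow, map_intCast]
  ring

include hp in
theorem isCh_Ech {D : Type u} [CommRing D] [Algebra A D] (s : ℕ) {d : D} (hd : d ^ p = 0) : IsCh (Ech p s d) := by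
  rcases subsingleton_or_nontrivial D with hD | hD
  · exact IsCh.of_subsingleton _
  haveI : CharP D p := ringChar.of_eq (CharP.ringChar_of_prime_eq_zero hp.out (natCast_zero (A := A) p D))
  refine (Groth.Agent.S13357.result p D _).2 ⟨s + 1, fun n => if n = s then d else 0, fun n => ?_, ?_⟩
  · show (if n = s then d else 0) ^ p = 0
    split_ifs
    · exact hd
    · exact zero_pow hp.out.ne_zero
  · rw [Finset.prod_eq_single_of_mem s (Finset.self_mem_range_succ s) (fun n _ hn => ?_)]
    · simp only [↓reduceIte]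
      rw [Ech_eq p (natCast_zero (A := A) p D)]
    · simp only [if_neg hn]
      rw [← Ech_eq p (natCast_zero (A := A) p D), Ech, map_zero, zero_mul,
        ee_eq_one_add p (natCast_zero (A := A) p (Polynomial D)) (by simp), add_zero]

variable {p}

include hp in
theorem pow_eq_bot : MI A p (Fin 2) ^ (2 * p - 1) = ⊥ := by
  have hp2 := hp.out.two_le
  rw [← Ideal.map_pow, Ideal.map_eq_bot_iff_le_ker, Ideal.mk_ker]
  intro x hx
  refine mem_box.2 fun m hm => ?_
  have := (MvPolynomial.mem_pow_idealOfVars_iff _ x).1 hx m hm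
  rw [m2_eta m, degree_m2] at this
  by_contra hne
  push Not at hne
  have := hne 0
  have := hne 1
  omega

include hp in
theorem wfun_mem : wfun p (tx A p (0 : Fin 2)) (tx A p 1) ∈ MI A p (Fin 2) ^ p := by
  refine neg_mem (Ideal.sum_mem _ fun i hi => ?_)
  rw [Finset.mem_Ico] at hi
  rw [_root_.mul_assoc]
  exact Ideal.mul_mem_left _ _ (mul_mem_pow _ (Ideal.pow_mem_pow (tx_mem A p 0) i)
    (Ideal.pow_mem_pow (tx_mem A p 1) (p - i)) (by omega))

include hp in
theorem wfun_pow {k : ℕ} (hk : 2 ≤ k) : wfun p (tx A p (0 : Fin 2)) (tx A p 1) ^ k = 0 := by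
  have h := pow_mem_pow' (MI A p (Fin 2)) (e := k) (wfun_mem (A := A) (p := p))
  have hle : 2 * p - 1 ≤ p * k := by
    have := Nat.mul_le_mul_left p hk
    omega
  have h2 := Ideal.pow_le_pow_right hle h
  rwa [pow_eq_bot, Ideal.mem_bot] at h2

include hp in
theorem sum_pow : (tx A p (0 : Fin 2) + tx A p 1) ^ p = 0 := by
  obtain ⟨r, hr⟩ := (Commute.all (tx A p (0 : Fin 2)) (tx A p 1)).exists_add_pow_prime_eq hp.out
  rw [hr, natCast_zero (A := A) p, tx_pow, tx_pow]
  simp

include hp in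
/-- The addition law of the basic characters. -/
theorem Ech_mul_gen {B : Type u} [CommRing B] (hB : (p : B) = 0) (ρ : ℤ_[p] →+* B[X]) {J : Ideal B} {a b : B}
    (hJ : J ^ (2 * p - 1) = ⊥) (ha : a ∈ J) (hb : b ∈ J) (ha' : a ^ p = 0) (hb' : b ^ p = 0) (hab : (a + b) ^ p = 0)
    (hw : wfun p a b ^ 2 = 0) (s : ℕ) :
    Ech p s a * Ech p s b = Ech p s (a + b) * Ech p (s + 1) (wfun p a b) := by
  set q := p ^ s
  have h0 : (p : B[X]) = 0 := by rw [← map_natCast (C : B →+* B[X]), hB, map_zero]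
  let U : B[X] := C a * X ^ q
  let V : B[X] := C b * X ^ q
  let f : MvPolynomial (Fin 2) ℤ_[p] →+* B[X] := MvPolynomial.eval₂Hom ρ ![U, V]
  have h' := map_eq_zero_of_mem hJ f
    (fun i => by
      refine ⟨![a, b] i, X ^ q, ?_, ?_⟩
      · fin_cases i
        · exact ha
        · exact hb
      · show f (MvPolynomial.X i) = _
        rw [MvPolynomial.eval₂Hom_X']
        fin_cases i <;> rfl) (show 2 * p - 1 ≤ 2 * p by omega) (ah_mul_universal p)
  have hf : f.comp MvPolynomial.C = ρ := by ext r; simp [f]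
  rw [map_sub, map_mul, map_mul, map_add, map_one, map_ah, map_ah, map_ah, map_wfun, map_add, hf,
    sub_eq_zero] at h'
  simp only [f, MvPolynomial.eval₂Hom_X', Matrix.cons_val_zero, Matrix.cons_val_one] at h'
  have hU : U ^ p = 0 := by rw [mul_pow, ← map_pow, ha', map_zero, zero_mul]
  have hV : V ^ p = 0 := by rw [mul_pow, ← map_pow, hb', map_zero, zero_mul]
  have hUV : U + V = C (a + b) * X ^ q := by rw [map_add, add_mul]
  have hW : wfun p U V = C (wfun p a b) * X ^ p ^ (s + 1) := by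
    rw [show U = X ^ q * C a from _root_.mul_comm _ _, show V = X ^ q * C b from _root_.mul_comm _ _,
      wfun_mul_mul, map_wfun, ← pow_mul, pow_succ, _root_.mul_comm]
  have hUV' : (U + V) ^ p = 0 := by rw [hUV, mul_pow, ← map_pow, hab, map_zero, zero_mul]
  rw [ah_eq_ee p ρ h0 hU, ah_eq_ee p ρ h0 hV, ah_eq_ee p ρ h0 hUV', hUV, hW,
    ← ee_eq_one_add p h0 (by rw [mul_pow, ← map_pow, hw, map_zero, zero_mul])] at h'
  exact h'

include hp in
/-- The addition law of the basic characters at the universal pair. -/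
theorem Ech_mul (s : ℕ) :
    Ech p s (tx A p (0 : Fin 2)) * Ech p s (tx A p 1) =
      Ech p s (tx A p (0 : Fin 2) + tx A p 1) * Ech p (s + 1) (wfun p (tx A p (0 : Fin 2)) (tx A p 1)) :=
  Ech_mul_gen (natCast_zero (A := A) p _) ((algebraMap A _).comp (padicTo p A)) pow_eq_bot (tx_mem A p 0) (tx_mem A p 1)
    (tx_pow A p _) (tx_pow A p _) sum_pow (wfun_pow le_rfl) s

include hp in
theorem coeff_wfun (s : ℕ) :
    (wfun p (MvPolynomial.X 0 : MvPolynomial (Fin 2) A) (MvPolynomial.X 1)).coeff (m2 1 (p - 1)) = -1 := by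
  classical
  have hp2 := hp.out.two_le
  rw [wfun, MvPolynomial.coeff_neg, MvPolynomial.coeff_sum, Finset.sum_eq_single 1]
  · rw [_root_.mul_assoc, monomial_m2, ← map_natCast (MvPolynomial.C : A →+* MvPolynomial (Fin 2) A),
      MvPolynomial.coeff_C_mul, MvPolynomial.coeff_monomial, if_pos rfl, Nat.choose_one_right,
      Nat.div_self hp.out.pos, Nat.cast_one, _root_.one_mul]
  · intro i _ hi
    rw [_root_.mul_assoc, monomial_m2, ← map_natCast (MvPolynomial.C : A →+* MvPolynomial (Fin 2) A),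
      MvPolynomial.coeff_C_mul, MvPolynomial.coeff_monomial, if_neg (fun h => hi (m2_inj.1 h).1), mul_zero]
  · intro h
    exact absurd (Finset.mem_Ico.2 ⟨le_rfl, by omega⟩) h

include hp in
theorem isUnit_natCast {i : ℕ} (hi : 0 < i) (hip : i < p) : IsUnit (i : A) := by
  have h : IsUnit (i : ZMod p) := Ne.isUnit (fun h0 => by
    have := Nat.le_of_dvd hi ((ZMod.natCast_eq_zero_iff _ _).1 h0)
    omega)
  simpa using h.map (ZMod.castHom dvd_rfl A)

include hp in
/-- A natural family is an evaluation, in characteristic `p`. -/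
theorem exists_eval_charP (Φ : Fam A) :
    ∃ t : A, ∀ (D : Type u) [CommRing D] [Algebra A D] (P : D[X]), IsCh P → Φ.F D P = P.eval (algebraMap A D t) := by
  classical
  have hp2 := hp.out.two_le
  let c := AdjoinRoot.root ((X : A[X]) ^ p)
  obtain ⟨G0, hG0⟩ := AdjoinRoot.mk_surjective (Φ.F (Dc A p) (Ech p 0 c))
  refine ⟨G0.coeff 1, fun D _ _ P hP => ?_⟩
  let Ψ := Φ.twist (G0.coeff 1)
  suffices hall : ∀ (D : Type u) [CommRing D] [Algebra A D] (P : D[X]), IsCh P → Ψ.F D P = 1 by
    have h1 : Φ.F D P * P.eval (-algebraMap A D (G0.coeff 1)) = 1 := hall D P hP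
    linear_combination P.eval (algebraMap A D (G0.coeff 1)) * h1 - Φ.F D P * hP.eval_mul_neg (algebraMap A D (G0.coeff 1))
  have rep : ∀ s, ∃ H : A[X], AdjoinRoot.mk ((X : A[X]) ^ p) H = Ψ.F (Dc A p) (Ech p s c) := fun s =>
    AdjoinRoot.mk_surjective _
  choose H hH using rep
  have hev : ∀ s (D : Type u) [CommRing D] [Algebra A D] (d : D), d ^ p = 0 → Ψ.F D (Ech p s d) = aeval d (H s) :=
    fun s D _ _ d hd => by
      rw [← toD_mk d hd, hH, Ψ.nat _ _ (isCh_Ech (A := A) p s (root_pow p)), map_Ech]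
      exact congrArg (fun z => Ψ.F D (Ech p s z)) (toD_root d hd).symm
  have hc0 : ∀ s, (H s).coeff 0 = 1 := fun s => by
    have h := hev s A 0 (zero_pow hp.out.ne_zero)
    rw [Ech, map_zero, zero_mul, ee_eq_one_add p (natCast_zero (A := A) p _) (by simp), add_zero, Ψ.one,
      coe_aeval_eq_eval] at h
    rw [coeff_zero_eq_eval_zero, ← h]
  have hb : ∀ s, Ψ.F _ (Ech p s (tx A p (0 : Fin 2))) * Ψ.F _ (Ech p s (tx A p (1 : Fin 2))) =
      Ψ.F _ (Ech p s (tx A p (0 : Fin 2) + tx A p 1)) *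
        Ψ.F _ (Ech p (s + 1) (wfun p (tx A p (0 : Fin 2)) (tx A p 1))) := fun s => by
    rw [← Ψ.mul _ _ (isCh_Ech (A := A) p s (tx_pow A p _)) (isCh_Ech (A := A) p s (tx_pow A p _)),
      ← Ψ.mul _ _ (isCh_Ech (A := A) p s sum_pow) (isCh_Ech (A := A) p (s + 1) (wfun_pow hp2)), Ech_mul]
  have haev : ∀ (G : A[X]) (Z : MvPolynomial (Fin 2) A),
      aeval (Ideal.Quotient.mk (box A (Fin 2) p) Z) G = Ideal.Quotient.mk _ (aeval Z G) := fun G Z =>
    aeval_algHom_apply (Ideal.Quotient.mkₐ A (box A (Fin 2) p)) Z G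
  have lowzero : ∀ s, (H s).coeff 1 = 0 → ∀ i, 0 < i → i < p → (H s).coeff i = 0 := by
    intro s h1
    refine coeff_eq_zero (fun i hi hip => isUnit_natCast (p := p) hi hip) (H s) h1 ?_
    rw [← Ideal.mem_quotient_iff_mem_sup, Ideal.map_pow, map_sub, map_mul, ← haev, ← haev, ← haev,
      ← hev s _ _ (tx_pow A p _), ← hev s _ _ (tx_pow A p _), map_add, ← hev s _ _ sum_pow, hb,
      hev (s + 1) _ _ (wfun_pow hp2)]
    set W := wfun p (tx A p (0 : Fin 2)) (tx A p 1)
    have h2 : aeval W (H (s + 1)) - 1 ∈ MI A p (Fin 2) ^ p := by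
      obtain ⟨r, hr⟩ : X ∣ H (s + 1) - 1 := by
        rw [X_dvd_iff, coeff_sub, hc0, coeff_one_zero, sub_self]
      have h3 : aeval W (H (s + 1)) - 1 = W * aeval (R := A) W r := by
        rw [← map_one (aeval (R := A) W), ← map_sub, hr, map_mul, aeval_X]
      rw [h3]
      exact Ideal.mul_mem_right _ _ wfun_mem
    rw [← mul_sub_one]
    exact Ideal.mul_mem_left _ _ h2
  have triv : ∀ s, (H s).coeff 1 = 0 → ∀ (D : Type u) [CommRing D] [Algebra A D] (d : D), d ^ p = 0 →
      Ψ.F D (Ech p s d) = 1 := by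
    intro s h1 D _ _ d hd
    rw [hev s D d hd, aeval_eq_sum_range' (n := max p ((H s).natDegree + 1)) (by omega),
      Finset.sum_eq_single 0 (fun i _ hi => ?_) (fun h => absurd (Finset.mem_range.2 (by omega)) h)]
    · rw [hc0, pow_zero, one_smul]
    · by_cases hip : i < p
      · rw [lowzero s h1 i (Nat.pos_of_ne_zero hi) hip, zero_smul]
      · rw [pow_eq_zero_of_le (not_lt.1 hip) hd, smul_zero]
  have h1 : ∀ s, (H s).coeff 1 = 0 := by
    intro s
    induction s with
    | zero =>
      set t := G0.coeff 1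
      have e : Ψ.F (Dc A p) (Ech p 0 c) = AdjoinRoot.mk _ (G0 * ee p (C (-t) * X)) := by
        show Φ.F (Dc A p) (Ech p 0 c) * (Ech p 0 c).eval (-algebraMap A _ t) = _
        rw [map_mul, ← hG0, eval_Ech, map_ee, map_mul, pow_zero, pow_one, AdjoinRoot.mk_X, AdjoinRoot.mk_C, map_neg,
          ← AdjoinRoot.algebraMap_eq, _root_.mul_comm c]
      rw [← hH] at e
      obtain ⟨r, hr⟩ := AdjoinRoot.mk_eq_mk.1 e
      have h2 := congrArg (fun z => Polynomial.coeff z 1) hr
      simp only [coeff_sub, coeff_X_pow_mul', show ¬ p ≤ 1 by omega, if_false, sub_eq_zero] at h2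
      rw [h2]
      have hg0 : G0.coeff 0 = 1 := by
        have h3 := congrArg (toD (0 : A) (zero_pow hp.out.ne_zero)) hG0
        rw [toD_mk, Φ.nat _ _ (isCh_Ech (A := A) p 0 (root_pow p)), map_Ech, coe_aeval_eq_eval] at h3
        rw [coeff_zero_eq_eval_zero, h3, show (toD (0 : A) (zero_pow hp.out.ne_zero)).toRingHom c = 0 from toD_root _ _,
          Ech, map_zero, zero_mul, ee_eq_one_add p (natCast_zero (A := A) p _) (by simp), add_zero, Φ.one]
      have hee : ∀ k, k < p → (ee p (C (-t) * X)).coeff k = (invFac p k : A) * (-t) ^ k := fun k hk => by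
        simp only [ee, mul_pow, ← map_pow, ← map_intCast (C : A →+* A[X]), ← _root_.mul_assoc, ← map_mul,
          finsetSum_coeff, coeff_C_mul_X_pow]
        rw [Finset.sum_ite_eq, if_pos (Finset.mem_range.2 hk)]
      have i0 := invFac_mul p (B := A) (CharP.cast_eq_zero A p) (show 0 < p by omega)
      have i1 := invFac_mul p (B := A) (CharP.cast_eq_zero A p) (show 1 < p by omega)
      simp only [Nat.factorial_zero, Nat.factorial_one, Nat.cast_one, _root_.mul_one] at i0 i1
      rw [Polynomial.coeff_mul, Finset.Nat.sum_antidiagonal_succ, Finset.Nat.antidiagonal_zero, Finset.sum_singleton]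
      simp only [zero_add, hee 1 (by omega), hee 0 (by omega), hg0, i0, i1, pow_one, pow_zero, _root_.one_mul,
        _root_.mul_one]
      exact neg_add_cancel t
    | succ s ih =>
      have h2 := hb s
      rw [triv s ih _ _ (tx_pow A p _), triv s ih _ _ (tx_pow A p _), triv s ih _ _ sum_pow, _root_.one_mul,
        _root_.one_mul, hev (s + 1) _ _ (wfun_pow hp2)] at h2
      set W := wfun p (tx A p (0 : Fin 2)) (tx A p 1)
      rw [aeval_eq_sum_range' (n := max 2 ((H (s + 1)).natDegree + 1)) (by omega),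
        ← Finset.sum_subset (Finset.range_mono (le_max_left 2 _)) (fun k _ hk => by
          rw [wfun_pow (not_lt.1 (fun h => hk (Finset.mem_range.2 h))), smul_zero]),
        Finset.sum_range_succ, Finset.sum_range_one, hc0, pow_zero, one_smul, pow_one] at h2
      have h3 : (H (s + 1)).coeff 1 • W = 0 := left_eq_add.1 h2
      have h4 : MvPolynomial.C ((H (s + 1)).coeff 1) * wfun p (MvPolynomial.X 0) (MvPolynomial.X 1) ∈
          MvPolynomial.idealOfVars (Fin 2) A ^ (p + 1) ⊔ box A (Fin 2) p := by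
        refine Submodule.mem_sup_right (Ideal.Quotient.eq_zero_iff_mem.1 ?_)
        rw [map_mul, map_wfun, mk_C', ← Algebra.smul_def]
        exact h3
      have h5 := coeff_eq_zero_of_mem h4 (m := m2 1 (p - 1)) (by rw [degree_m2]; omega)
        (fun k => by fin_cases k <;> simp <;> omega)
      rw [MvPolynomial.coeff_C_mul, coeff_wfun (A := A) 0, mul_neg, _root_.mul_one, neg_eq_zero] at h5
      exact h5
  intro D _ _ P hP
  rcases subsingleton_or_nontrivial D with hD | hD
  · exact Subsingleton.elim _ _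
  haveI : CharP D p := ringChar.of_eq (CharP.ringChar_of_prime_eq_zero hp.out (natCast_zero (A := A) p D))
  obtain ⟨N, a, ha, hPe⟩ := (Groth.Agent.S13357.result p D P).1 hP
  subst hPe
  have hprod : ∀ M, IsCh (∏ n ∈ Finset.range M, Ech p n (a n)) ∧ Ψ.F D (∏ n ∈ Finset.range M, Ech p n (a n)) = 1 := by
    intro M
    induction M with
    | zero => exact ⟨IsCh.one, Ψ.one⟩
    | succ M ih =>
      rw [Finset.prod_range_succ]
      exact ⟨ih.1.mul (isCh_Ech (A := A) p M (ha M)), by
        rw [Ψ.mul _ _ ih.1 (isCh_Ech (A := A) p M (ha M)), ih.2, triv M (h1 M) D _ (ha M), _root_.one_mul]⟩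
  simpa only [Ech_eq p (natCast_zero (A := A) p D)] using (hprod N).2
where
  mk_C' {r : A} : Ideal.Quotient.mk (box A (Fin 2) p) (MvPolynomial.C r) = algebraMap A _ r := rfl

include hp in
/-- Evaluations are determined by the characters, in characteristic `p`. -/
theorem eval_injective_charP (t t' : A)
    (h : ∀ (D : Type u) [CommRing D] [Algebra A D] (P : D[X]), IsCh P →
      P.eval (algebraMap A D t) = P.eval (algebraMap A D t')) : t = t' := by
  have hp2 := hp.out.two_le
  let c := AdjoinRoot.root ((X : A[X]) ^ p)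
  have h1 := h (Dc A p) (Ech p 0 c) (isCh_Ech (A := A) p 0 (root_pow p))
  have e : ∀ u : A, (Ech p 0 c).eval (algebraMap A (Dc A p) u) = AdjoinRoot.mk _ (ee p (C u * X)) := fun u => by
    rw [eval_Ech, map_ee, map_mul, pow_zero, pow_one, AdjoinRoot.mk_X, AdjoinRoot.mk_C, ← AdjoinRoot.algebraMap_eq,
      _root_.mul_comm c]
  rw [e, e] at h1
  obtain ⟨r, hr⟩ := AdjoinRoot.mk_eq_mk.1 h1
  have h2 := congrArg (fun z => Polynomial.coeff z 1) hr
  simp only [coeff_sub, coeff_X_pow_mul', show ¬ p ≤ 1 by omega, if_false, sub_eq_zero] at h2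
  have hee : ∀ u : A, (ee p (C u * X)).coeff 1 = u := fun u => by
    simp only [ee, mul_pow, ← map_pow, ← map_intCast (C : A →+* A[X]), ← _root_.mul_assoc, ← map_mul,
      finsetSum_coeff, coeff_C_mul_X_pow]
    rw [Finset.sum_ite_eq, if_pos (Finset.mem_range.2 (by omega))]
    have i1 := invFac_mul p (B := A) (CharP.cast_eq_zero A p) (show 1 < p by omega)
    simp only [Nat.factorial_one, Nat.cast_one, _root_.mul_one] at i1
    rw [i1, pow_one, _root_.one_mul]
  rw [← hee t, ← hee t']
  exact h2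

end CharP

section Rat

variable [Algebra ℚ A]

/-- The exponential character. -/
noncomputable def Ex {D : Type u} [CommRing D] [Algebra ℚ D] (d : D) : D[X] := IsNilpotent.exp (C d * X)

theorem map_Ex {D D' : Type u} [CommRing D] [Algebra ℚ D] [CommRing D'] [Algebra ℚ D'] (f : D →+* D') {d : D}
    (hd : IsNilpotent d) : (Ex d).map f = Ex (f d) := by
  rw [Ex, Ex, ← coe_mapRingHom, IsNilpotent.map_exp ((Commute.all _ _).isNilpotent_mul_right (hd.map C))]
  simp

theorem coeff_Ex {D : Type u} [CommRing D] [Algebra ℚ D] {d : D} {N : ℕ} (hd : d ^ N = 0) (k : ℕ) :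
    (Ex d).coeff k = ((k.factorial : ℚ)⁻¹) • d ^ k := by
  rw [Ex, IsNilpotent.exp_eq_sum (k := N) (by rw [mul_pow, ← map_pow, hd, map_zero, zero_mul]), finsetSum_coeff]
  simp only [mul_pow, ← map_pow, coeff_smul, coeff_C_mul_X_pow]
  by_cases hk : k < N
  · rw [Finset.sum_eq_single k (fun i _ hi => by simp [Ne.symm hi]) (fun h => absurd (Finset.mem_range.2 hk) h),
      if_pos rfl]
  · rw [Finset.sum_eq_zero (fun i hi => by
      rw [if_neg (fun h => hk (by have := Finset.mem_range.1 hi; omega)), smul_zero]), pow_eq_zero_of_le (not_lt.1 hk) hd, smul_zero]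

theorem isCh_Ex {D : Type u} [CommRing D] [Algebra ℚ D] {d : D} (hd : IsNilpotent d) : IsCh (Ex d) := by
  obtain ⟨N, hN⟩ := hd
  refine (Groth.Agent.S13356.result D _).2 ⟨d, ⟨N, hN⟩, PowerSeries.ext fun k => ?_⟩
  rw [Polynomial.coeff_coe, PowerSeries.coeff_rescale, PowerSeries.coeff_exp, coeff_Ex hN, Algebra.smul_def,
    _root_.mul_comm, one_div]

theorem Ex_add {D : Type u} [CommRing D] [Algebra ℚ D] {a b : D} (ha : IsNilpotent a) (hb : IsNilpotent b) :
    Ex (a + b) = Ex a * Ex b := by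
  rw [Ex, Ex, Ex, map_add, add_mul]
  exact IsNilpotent.exp_add_of_commute (Commute.all _ _) ((Commute.all _ _).isNilpotent_mul_right (ha.map C))
    ((Commute.all _ _).isNilpotent_mul_right (hb.map C))

theorem Ex_zero {D : Type u} [CommRing D] [Algebra ℚ D] : Ex (0 : D) = 1 := by
  rw [Ex, map_zero, zero_mul, IsNilpotent.exp_zero]

theorem eval_Ex {D : Type u} [CommRing D] [Algebra ℚ D] {d : D} (hd : IsNilpotent d) (z : D) :
    (Ex d).eval z = IsNilpotent.exp (d * z) := by
  rw [Ex, ← coe_evalRingHom, IsNilpotent.map_exp ((Commute.all _ _).isNilpotent_mul_right (hd.map C))]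
  simp

/-- An `A`-algebra is a `ℚ`-algebra. -/
@[implicit_reducible] noncomputable def ratAlg (D : Type u) [CommRing D] [Algebra A D] : Algebra ℚ D :=
  ((algebraMap A D).comp (algebraMap ℚ A)).toAlgebra

theorem isUnit_natCast_rat {i : ℕ} (hi : 0 < i) : IsUnit (i : A) := by
  simpa using (Ne.isUnit (show (i : ℚ) ≠ 0 by exact_mod_cast hi.ne')).map (algebraMap ℚ A)

theorem coeff_mk_eq {N : ℕ} {G G' : A[X]} (h : AdjoinRoot.mk ((X : A[X]) ^ N) G = AdjoinRoot.mk _ G') {k : ℕ}
    (hk : k < N) : G.coeff k = G'.coeff k := by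
  obtain ⟨r, hr⟩ := AdjoinRoot.mk_eq_mk.1 h
  have h2 := congrArg (fun z => Polynomial.coeff z k) hr
  simpa [coeff_sub, coeff_X_pow_mul', not_le.2 hk, sub_eq_zero] using h2

/-- A natural family is an evaluation, over the rationals. -/
theorem exists_eval_rat (Φ : Fam A) :
    ∃ t : A, ∀ (D : Type u) [CommRing D] [Algebra A D] (P : D[X]), IsCh P → Φ.F D P = P.eval (algebraMap A D t) := by
  let i2 : Algebra ℚ (Dc A 2) := ratAlg (A := A) _
  let c2 := AdjoinRoot.root ((X : A[X]) ^ 2)
  obtain ⟨G0, hG0⟩ := AdjoinRoot.mk_surjective (Φ.F (Dc A 2) (Ex c2))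
  refine ⟨G0.coeff 1, fun D _ _ P hP => ?_⟩
  let Ψ := Φ.twist (G0.coeff 1)
  suffices hall : ∀ (D : Type u) [CommRing D] [Algebra A D] (P : D[X]), IsCh P → Ψ.F D P = 1 by
    have h1 : Φ.F D P * P.eval (-algebraMap A D (G0.coeff 1)) = 1 := hall D P hP
    linear_combination P.eval (algebraMap A D (G0.coeff 1)) * h1 - Φ.F D P * hP.eval_mul_neg (algebraMap A D (G0.coeff 1))
  have rep : ∀ N, ∃ H : A[X], AdjoinRoot.mk ((X : A[X]) ^ N) H =
      (letI := ratAlg (A := A) (Dc A N); Ψ.F (Dc A N) (Ex (AdjoinRoot.root ((X : A[X]) ^ N)))) := fun N =>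
    AdjoinRoot.mk_surjective _
  choose H hH using rep
  have hev : ∀ N (D : Type u) [CommRing D] [Algebra A D] [Algebra ℚ D] (d : D), d ^ N = 0 →
      Ψ.F D (Ex d) = aeval d (H N) := fun N D _ _ _ d hd => by
    letI := ratAlg (A := A) (Dc A N)
    rw [← toD_mk d hd, hH, Ψ.nat _ _ (isCh_Ex ⟨N, root_pow N⟩), map_Ex _ ⟨N, root_pow N⟩]
    exact congrArg (fun z => Ψ.F D (Ex z)) (toD_root d hd).symm
  have hcompat : ∀ M N k, M ≤ N → k < M → (H N).coeff k = (H M).coeff k := fun M N k hMN hk => by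
    letI := ratAlg (A := A) (Dc A M)
    refine coeff_mk_eq (N := M) ?_ hk
    rw [hH M, hev N (Dc A M) (AdjoinRoot.root _) (pow_eq_zero_of_le hMN (root_pow M)), AdjoinRoot.aeval_eq]
  have hc0 : ∀ N, 0 < N → (H N).coeff 0 = 1 := fun N hN => by
    have h := hev N A 0 (zero_pow hN.ne')
    rw [Ex_zero, Ψ.one, coe_aeval_eq_eval] at h
    rw [coeff_zero_eq_eval_zero, ← h]
  have h21 : (H 2).coeff 1 = 0 := by
    set t := G0.coeff 1
    have e : Ψ.F (Dc A 2) (Ex c2) = AdjoinRoot.mk _ (G0 * (1 + C (-t) * X)) := by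
      show Φ.F (Dc A 2) (Ex c2) * (Ex c2).eval (-algebraMap A _ t) = _
      rw [map_mul, ← hG0, eval_Ex ⟨2, root_pow 2⟩,
        IsNilpotent.exp_eq_sum (k := 2) (by rw [mul_pow, root_pow, zero_mul]), Finset.sum_range_succ,
        Finset.sum_range_one, pow_zero, pow_one]
      simp only [Nat.factorial_zero, Nat.factorial_one, Nat.cast_one, inv_one, Algebra.smul_def, _root_.one_mul, map_add, map_one, map_mul,
        AdjoinRoot.mk_X, AdjoinRoot.mk_C, map_neg, ← AdjoinRoot.algebraMap_eq]
      ring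
    rw [← hH 2] at e
    rw [coeff_mk_eq e (show 1 < 2 by omega)]
    have hg0 : G0.coeff 0 = 1 := by
      have h3 := congrArg (toD (0 : A) (zero_pow (two_ne_zero))) hG0
      rw [toD_mk, Φ.nat _ _ (isCh_Ex ⟨2, root_pow 2⟩), map_Ex _ ⟨2, root_pow 2⟩, coe_aeval_eq_eval] at h3
      rw [coeff_zero_eq_eval_zero, h3, show (toD (0 : A) (zero_pow two_ne_zero)).toRingHom c2 = 0 from toD_root _ _,
        Ex_zero, Φ.one]
    rw [mul_add, _root_.mul_one, ← _root_.mul_assoc, coeff_add, coeff_mul_X, coeff_mul_C, hg0, _root_.one_mul]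
    exact add_neg_cancel t
  have low : ∀ N k, 0 < k → k < N → (H N).coeff k = 0 := fun N k hk hkN => by
    have h1 : (H N).coeff 1 = 0 := by rw [hcompat 2 N 1 (by omega) (by omega), h21]
    refine coeff_eq_zero (fun i hi _ => isUnit_natCast_rat hi) (H N) h1 ?_ k hk hkN
    letI := ratAlg (A := A) (TR A N (Fin 2))
    have hsum : (tx A N (0 : Fin 2) + tx A N 1) ^ (2 * N) = 0 :=
      (Commute.all _ _).add_pow_eq_zero_of_add_le_succ_of_pow_eq_zero (tx_pow A N _) (tx_pow A N _) (by omega)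
    have haev : ∀ (G : A[X]) (Z : MvPolynomial (Fin 2) A),
        aeval (Ideal.Quotient.mk (box A (Fin 2) N) Z) G = Ideal.Quotient.mk _ (aeval Z G) := fun G Z =>
      aeval_algHom_apply (Ideal.Quotient.mkₐ A (box A (Fin 2) N)) Z G
    rw [← Ideal.mem_quotient_iff_mem_sup, Ideal.map_pow, map_sub, map_mul, ← haev, ← haev, ← haev, map_add,
      ← hev N _ _ (tx_pow A N _), ← hev N _ _ (tx_pow A N _),
      ← Ψ.mul _ _ (isCh_Ex ⟨N, tx_pow A N _⟩) (isCh_Ex ⟨N, tx_pow A N _⟩),
      ← Ex_add ⟨N, tx_pow A N _⟩ ⟨N, tx_pow A N _⟩, hev (2 * N) _ _ hsum, ← map_sub]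
    obtain ⟨r, hr⟩ : X ^ N ∣ H (2 * N) - H N := by
      rw [X_pow_dvd_iff]
      intro i hi
      rw [coeff_sub, hcompat N (2 * N) i (by omega) hi, sub_self]
    rw [hr, map_mul, map_pow, aeval_X]
    exact Ideal.mul_mem_right _ _ (Ideal.pow_mem_pow (add_mem (tx_mem A N _) (tx_mem A N _)) N)
  intro D _ _ P hP
  letI := ratAlg (A := A) D
  obtain ⟨d, ⟨N, hd⟩, hPd⟩ := (Groth.Agent.S13356.result D P).1 hP
  have hPe : P = Ex d := Polynomial.ext fun k => by
    have h := congrArg (PowerSeries.coeff k) hPd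
    rw [Polynomial.coeff_coe, PowerSeries.coeff_rescale, PowerSeries.coeff_exp] at h
    rw [h, coeff_Ex hd, Algebra.smul_def, _root_.mul_comm, one_div]
  rcases Nat.eq_zero_or_pos N with rfl | hN
  · haveI : Subsingleton D := subsingleton_of_zero_eq_one (hd.symm.trans (pow_zero d)).symm.symm
    exact Subsingleton.elim _ _
  rw [hPe, hev N D d hd, aeval_eq_sum_range' (n := max N ((H N).natDegree + 1)) (by omega),
    Finset.sum_eq_single 0 (fun i _ hi => ?_) (fun h => absurd (Finset.mem_range.2 (by omega)) h)]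
  · rw [hc0 N hN, pow_zero, one_smul]
  · by_cases hiN : i < N
    · rw [low N i (Nat.pos_of_ne_zero hi) hiN, zero_smul]
    · rw [pow_eq_zero_of_le (not_lt.1 hiN) hd, smul_zero]

/-- Evaluations are determined by the characters, over the rationals. -/
theorem eval_injective_rat (t t' : A)
    (h : ∀ (D : Type u) [CommRing D] [Algebra A D] (P : D[X]), IsCh P →
      P.eval (algebraMap A D t) = P.eval (algebraMap A D t')) : t = t' := by
  let i2 : Algebra ℚ (Dc A 2) := ratAlg (A := A) _
  let c := AdjoinRoot.root ((X : A[X]) ^ 2)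
  have h1 := h (Dc A 2) (Ex c) (isCh_Ex ⟨2, root_pow 2⟩)
  have e : ∀ u : A, (Ex c).eval (algebraMap A (Dc A 2) u) = AdjoinRoot.mk _ (1 + C u * X) := fun u => by
    rw [eval_Ex ⟨2, root_pow 2⟩, IsNilpotent.exp_eq_sum (k := 2) (by rw [mul_pow, root_pow, zero_mul]),
      Finset.sum_range_succ, Finset.sum_range_one, pow_zero, pow_one]
    simp only [Nat.factorial_zero, Nat.factorial_one, Nat.cast_one, inv_one, Algebra.smul_def, _root_.one_mul, map_add, map_one, map_mul,
      AdjoinRoot.mk_X, AdjoinRoot.mk_C, ← AdjoinRoot.algebraMap_eq]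
    ring
  rw [e, e] at h1
  simpa [Polynomial.coeff_one] using coeff_mk_eq h1 (show 1 < 2 by omega)

end Rat

end Groth.Agent.GaBid87
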