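import Groth.Agent.GaBid87.Alg
import Groth.Agent.GaLoc87.Coord
import Groth.Prelude.Def_CGrpSh2

/-!
# Biduality for the additive group on the big fppf site
-/

set_option autoImplicit false
set_option linter.style.haveILetI false
set_option linter.unusedSectionVars false

universe u

open CategoryTheory CategoryTheory.Limits AlgebraicGeometry Opposite MonObj GrpObj MonoidalCategory CartesianMonoidalCategory
open Groth.Agent.SGA1Torsor Groth.Agent.GaExt87 Groth.Agent.GaFrob87 Groth.Agent.GaLoc87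

noncomputable section

namespace Groth.Agent.GaBid87

local notation "Kf" => Scheme.fppfPrecoverage

variable {S : Scheme.{u}}

section Generic

variable {F G : BigSite.Ab Kf S}

/-- A morphism over an object on sections. -/
def appS {Z W : Over S} (φ : F.over Z ⟶ G.over Z) (g : W ⟶ Z) : BigSite.sect Kf F W →+ BigSite.sect Kf G W :=
  (φ.hom.app (op (Over.mk g))).hom

theorem rr_appS {Z W W' : Over S} (φ : F.over Z ⟶ G.over Z) (k : W' ⟶ W) (g : W ⟶ Z) (x : BigSite.sect Kf F W) :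
    rr G k (appS φ g x) = appS φ (k ≫ g) (rr F k x) :=
  (NatTrans.naturality_apply φ.hom (Over.homMk k : Over.mk (k ≫ g) ⟶ Over.mk g).op x).symm

theorem hom_ext_appS {Z : Over S} {φ φ' : F.over Z ⟶ G.over Z}
    (h : ∀ (W : Over S) (g : W ⟶ Z) (x : BigSite.sect Kf F W), appS φ g x = appS φ' g x) : φ = φ' :=
  Sheaf.hom_ext (NatTrans.ext (funext fun U => AddCommGrpCat.ext fun z => h U.unop.left U.unop.hom z))

/-- A morphism over an object from its values. -/
def mkHom {Z : Over S} (f : ∀ W : Over S, (W ⟶ Z) → (BigSite.sect Kf F W →+ BigSite.sect Kf G W))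
    (hf : ∀ (W W' : Over S) (k : W' ⟶ W) (g : W ⟶ Z) (x : BigSite.sect Kf F W),
      rr G k (f W g x) = f W' (k ≫ g) (rr F k x)) : F.over Z ⟶ G.over Z :=
  ⟨{ app := fun U => AddCommGrpCat.ofHom (f U.unop.left U.unop.hom)
     naturality := fun U U' k => AddCommGrpCat.ext fun z => by
       refine Eq.trans ?_ (hf _ _ k.unop.left U.unop.hom z).symm
       exact DFunLike.congr_fun (congrArg (f U'.unop.left) (Over.w k.unop).symm) (rr F k.unop.left z) }⟩

theorem appS_mkHom {Z W : Over S} (f : ∀ W : Over S, (W ⟶ Z) → (BigSite.sect Kf F W →+ BigSite.sect Kf G W))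
    (hf : ∀ (W W' : Over S) (k : W' ⟶ W) (g : W ⟶ Z) (x : BigSite.sect Kf F W),
      rr G k (f W g x) = f W' (k ≫ g) (rr F k x)) (g : W ⟶ Z) : appS (mkHom f hf) g = f W g := rfl

/-- A morphism over an object as a section of the internal Hom. -/
def dS {W : Over S} (φ : F.over W ⟶ G.over W) : BigSite.sect Kf (HomSh.homSh (QuotSh.J Kf S) F G) W := φ

theorem appS_rr_dS {Z W W' : Over S} (k : Z ⟶ W) (φ : F.over W ⟶ G.over W) (g : W' ⟶ Z) :
    appS (show F.over Z ⟶ G.over Z from rr (HomSh.homSh (QuotSh.J Kf S) F G) k (dS φ)) g = appS φ (g ≫ k) := rfl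

theorem dS_surjective {W : Over S} (x : BigSite.sect Kf (HomSh.homSh (QuotSh.J Kf S) F G) W) : ∃ φ, x = dS φ := ⟨x, rfl⟩

theorem dS_add {W : Over S} (φ ψ : F.over W ⟶ G.over W) : dS (φ + ψ) = dS φ + dS ψ := rfl

theorem appS_add {Z W : Over S} (φ ψ : F.over Z ⟶ G.over Z) (g : W ⟶ Z) (x : BigSite.sect Kf F W) :
    appS (φ + ψ) g x = appS φ g x + appS ψ g x := rfl

end Generic

/-- The function of a section of the multiplicative group. -/
def gF {W : Over S} (z : BigSite.sect Kf (CGrpSh2.Gm Kf S) W) : Γ(W.left, ⊤) :=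
  Red.gmFn (S := S) (show W ⟶ Red.Gm S from Additive.toMul (ULift.down z))

/-- The section of a unit. -/
def mE {W : Over S} (a : (Γ(W.left, ⊤))ˣ) : BigSite.sect Kf (CGrpSh2.Gm Kf S) W :=
  ULift.up (Additive.ofMul (RedPts.gmPt (S := S) a))

theorem gF_mE {W : Over S} (a : (Γ(W.left, ⊤))ˣ) : gF (mE (S := S) a) = a := RedPts.gmFn_gmPt a

theorem gF_add {W : Over S} (z z' : BigSite.sect Kf (CGrpSh2.Gm Kf S) W) : gF (z + z') = gF z * gF z' :=
  RedPts.gm_mul _ _

theorem gF_inj {W : Over S} {z z' : BigSite.sect Kf (CGrpSh2.Gm Kf S) W} (h : gF z = gF z') : z = z' :=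
  ULift.ext _ _ (congrArg Additive.ofMul (RedPts.gm_injective h))

theorem gF_isUnit {W : Over S} (z : BigSite.sect Kf (CGrpSh2.Gm Kf S) W) : IsUnit (gF z) := RedPts.gm_isUnit _

theorem gF_rr {W W' : Over S} (h : W' ⟶ W) (z : BigSite.sect Kf (CGrpSh2.Gm Kf S) W) :
    gF (rr (CGrpSh2.Gm Kf S) h z) = h.left.appTop (gF z) := RedPts.gm_comp h _

theorem gF_zero {W : Over S} : gF (0 : BigSite.sect Kf (CGrpSh2.Gm Kf S) W) = 1 := by
  have h := gF_add (0 : BigSite.sect Kf (CGrpSh2.Gm Kf S) W) 0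
  rw [add_zero] at h
  exact (gF_isUnit _).mul_left_cancel (h.symm.trans (_root_.mul_one _).symm)

variable {A : Type u} [CommRing A] {j : Spec (CommRingCat.of A) ⟶ S}
variable {D : Type u} [CommRing D] [Algebra A D]

/-- The map on functions of a point of an affine chart. -/
def psi {W : Over S} (g : W ⟶ QA j D) : D →+* Γ(W.left, ⊤) := g.left.appTop.hom.comp (fn j D).symm.toRingHom

theorem psi_comp {W W' : Over S} (k : W' ⟶ W) (g : W ⟶ QA j D) : psi (k ≫ g) = k.left.appTop.hom.comp (psi g) := rfl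

theorem psi_id : psi (𝟙 (QA j D)) = (fn j D).symm.toRingHom := rfl

/-- The unit given by a character at a function. -/
def chU {W : Over S} {P : Polynomial D} (hP : IsCh P) (g : W ⟶ QA j D) (c : Γ(W.left, ⊤)) : (Γ(W.left, ⊤))ˣ :=
  Units.mkOfMulEqOne (P.eval₂ (psi g) c) (P.eval₂ (psi g) (-c)) (by
    rw [← hP.eval_add, add_neg_cancel, Polynomial.eval₂_at_zero, Polynomial.coeff_zero_eq_eval_zero, hP.1, map_one])

/-- The function of a section of the additive group. -/
def aF {W : Over S} (z : BigSite.sect Kf (CGrpSh2.Ga Kf S) W) : Γ(W.left, ⊤) :=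
  Red.gaFn (S := S) (show W ⟶ Red.Ga S from Additive.toMul (ULift.down z))

theorem aF_add {W : Over S} (z z' : BigSite.sect Kf (CGrpSh2.Ga Kf S) W) : aF (z + z') = aF z + aF z' :=
  RedPts.ga_mul _ _

theorem aF_rr {W W' : Over S} (h : W' ⟶ W) (z : BigSite.sect Kf (CGrpSh2.Ga Kf S) W) :
    aF (rr (CGrpSh2.Ga Kf S) h z) = h.left.appTop (aF z) := RedPts.ga_comp h _

theorem aF_pE {W : Over S} (q : W ⟶ Red.Ga S) : aF (pE q) = Red.gaFn q := rfl

theorem exists_pE {W : Over S} (z : BigSite.sect Kf (CGrpSh2.Ga Kf S) W) : ∃ q, z = pE q := ⟨_, rfl⟩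

/-- The values of a character. -/
def chHom {P : Polynomial D} (hP : IsCh P) (W : Over S) (g : W ⟶ QA j D) :
    BigSite.sect Kf (CGrpSh2.Ga Kf S) W →+ BigSite.sect Kf (CGrpSh2.Gm Kf S) W :=
  AddMonoidHom.mk' (fun z => mE (chU hP g (aF z))) (fun z z' => gF_inj (by
    rw [gF_add, gF_mE, gF_mE, gF_mE]
    show P.eval₂ _ (aF (z + z')) = P.eval₂ _ _ * P.eval₂ _ _
    rw [aF_add, hP.eval_add]))

variable (j) in
/-- The morphism attached to a character. -/
def phiP {P : Polynomial D} (hP : IsCh P) : (CGrpSh2.Ga Kf S).over (QA j D) ⟶ (CGrpSh2.Gm Kf S).over (QA j D) :=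
  mkHom (chHom hP) (fun W W' k g x => gF_inj (by
    show gF (rr (CGrpSh2.Gm Kf S) k (mE (chU hP g (aF x)))) = gF (mE (chU hP (k ≫ g) (aF (rr (CGrpSh2.Ga Kf S) k x))))
    rw [gF_rr, gF_mE, gF_mE, aF_rr]
    exact Polynomial.hom_eval₂ P (psi g) k.left.appTop.hom (aF x)))

/-- The value of a morphism at a point. -/
def val {Z W : Over S} (φ : (CGrpSh2.Ga Kf S).over Z ⟶ (CGrpSh2.Gm Kf S).over Z) (g : W ⟶ Z) (q : W ⟶ Red.Ga S) :
    Γ(W.left, ⊤) :=
  gF (appS φ g (pE q))

theorem val_phiP {P : Polynomial D} (hP : IsCh P) {W : Over S} (g : W ⟶ QA j D) (q : W ⟶ Red.Ga S) :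
    val (phiP j hP) g q = P.eval₂ (psi g) (Red.gaFn q) := by
  rw [val, phiP, appS_mkHom, ← aF_pE q]
  exact gF_mE _

theorem hom_ext_val {Z : Over S} {φ φ' : (CGrpSh2.Ga Kf S).over Z ⟶ (CGrpSh2.Gm Kf S).over Z}
    (h : ∀ (W : Over S) (g : W ⟶ Z) (q : W ⟶ Red.Ga S), val φ g q = val φ' g q) : φ = φ' :=
  hom_ext_appS fun W g x => by
    obtain ⟨q, rfl⟩ := exists_pE x
    exact gF_inj (h W g q)

theorem val_mul {Z W : Over S} (φ : (CGrpSh2.Ga Kf S).over Z ⟶ (CGrpSh2.Gm Kf S).over Z) (g : W ⟶ Z)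
    (q q' : W ⟶ Red.Ga S) : val φ g (q * q') = val φ g q * val φ g q' := by
  rw [val, val, val, pE_mul, map_add, gF_add]

theorem val_one {Z W : Over S} (φ : (CGrpSh2.Ga Kf S).over Z ⟶ (CGrpSh2.Gm Kf S).over Z) (g : W ⟶ Z) :
    val φ g 1 = 1 := by
  rw [val, pE_one, map_zero, gF_zero]

theorem val_comp {Z W W' : Over S} (φ : (CGrpSh2.Ga Kf S).over Z ⟶ (CGrpSh2.Gm Kf S).over Z) (k : W' ⟶ W) (g : W ⟶ Z)
    (q : W ⟶ Red.Ga S) : val φ (k ≫ g) (k ≫ q) = k.left.appTop (val φ g q) := by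
  rw [val, val, ← gF_rr, rr_appS, rr_pE]

variable (j D) in
/-- The universal line over an affine object. -/
abbrev lineMap : QA j (Polynomial D) ⟶ QA j D := qmap j (IsScalarTower.toAlgHom A D (Polynomial D))

/-- The polynomial of a morphism. -/
def chP (φ : (CGrpSh2.Ga Kf S).over (QA j D) ⟶ (CGrpSh2.Gm Kf S).over (QA j D)) : Polynomial D :=
  fn j (Polynomial D) (val φ (lineMap j D) (gaQ j (Polynomial.X : Polynomial D)))

theorem val_eq (φ : (CGrpSh2.Ga Kf S).over (QA j D) ⟶ (CGrpSh2.Gm Kf S).over (QA j D)) {W : Over S} (g : W ⟶ QA j D)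
    (q : W ⟶ Red.Ga S) : val φ g q = (chP φ).eval₂ (psi g) (Red.gaFn q) := by
  let ρ : Polynomial D →+* Γ(W.left, ⊤) := Polynomial.eval₂RingHom (psi g) (Red.gaFn q)
  let h : W ⟶ QA j (Polynomial D) := toQR (g ≫ st j D) ρ (RingHom.ext fun a => by
    show ρ (algebraMap A (Polynomial D) a) = strR (g ≫ st j D) a
    rw [Polynomial.algebraMap_apply]
    show Polynomial.eval₂ (psi g) (Red.gaFn q) (Polynomial.C (algebraMap A D a)) = _
    rw [Polynomial.eval₂_C]
    exact app_st g a)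
  have hg : h ≫ lineMap j D = g := hom_extR fun d => by
    show h.left.appTop ((qmap j (IsScalarTower.toAlgHom A D (Polynomial D))).left.appTop ((fn j D).symm d)) = _
    rw [app_symm, app_toQR]
    show Polynomial.eval₂ (psi g) (Red.gaFn q) (algebraMap D (Polynomial D) d) = _
    rw [← Polynomial.C_eq_algebraMap, Polynomial.eval₂_C]
    rfl
  have hq : h ≫ gaQ j (Polynomial.X : Polynomial D) = q := RedPts.ga_injective (by
    rw [gaFn_comp_gaQR, app_toQR]; exact Polynomial.eval₂_X _ _)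
  conv_lhs => rw [← hg, ← hq]
  rw [val_comp, ← (fn j (Polynomial D)).symm_apply_apply (val φ (lineMap j D) (gaQ j Polynomial.X)), app_toQR]
  rfl

theorem psi_qmap {D' : Type u} [CommRing D'] [Algebra A D'] (f : D →ₐ[A] D') {W : Over S} (g : W ⟶ QA j D') :
    psi (g ≫ qmap j f) = (psi g).comp f.toRingHom := RingHom.ext fun d => by
  show g.left.appTop ((qmap j f).left.appTop ((fn j D).symm d)) = g.left.appTop ((fn j D').symm (f d))
  rw [app_symm]

theorem one_mul_one {W : Over S} : (1 : W ⟶ Red.Ga S) * 1 = 1 := by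
  let : Group (W ⟶ Red.Ga S) := Hom.group
  exact _root_.one_mul _

theorem isCh_chP (φ : (CGrpSh2.Ga Kf S).over (QA j D) ⟶ (CGrpSh2.Gm Kf S).over (QA j D)) : IsCh (chP φ) := by
  refine ⟨?_, ?_⟩
  · have h := val_eq φ (𝟙 (QA j D)) (gaQ j (0 : D))
    rw [gaQ, RedPts.gaFn_gaPt, show RedPts.gaPt (S := S) ((fn j D).symm (0 : D)) = (1 : QA j D ⟶ Red.Ga S) from
      RedPts.ga_injective (by
        have e := RedPts.ga_mul (1 : QA j D ⟶ Red.Ga S) 1
        rw [one_mul_one] at e
        rw [RedPts.gaFn_gaPt, map_zero, left_eq_add.1 e]), val_one, psi_id] at h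
    refine (fn j D).symm.injective ?_
    rw [map_one, h]
    exact (Polynomial.eval₂_at_apply ((fn j D).symm.toRingHom) (0 : D)).symm
  · let M := MvPolynomial (Fin 2) D
    let g : QA j M ⟶ QA j D := qmap j (IsScalarTower.toAlgHom A D M)
    have key : ∀ z : M, val φ g (gaQ j z) = (fn j M).symm (Polynomial.aeval z (chP φ)) := fun z => by
      rw [val_eq, gaQ, RedPts.gaFn_gaPt, ← Category.id_comp g, psi_qmap, psi_id, Polynomial.aeval_def]
      exact (Polynomial.hom_eval₂ _ _ (fn j M).symm.toRingHom _).symm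
    refine (fn j M).symm.injective ?_
    rw [map_mul, ← key, ← key, ← key, ← val_mul, gaQ_mul]

theorem eq_phiP (φ : (CGrpSh2.Ga Kf S).over (QA j D) ⟶ (CGrpSh2.Gm Kf S).over (QA j D)) :
    φ = phiP j (isCh_chP φ) := hom_ext_val fun W g q => by rw [val_phiP, val_eq]

theorem map_phiP {D' : Type u} [CommRing D'] [Algebra A D'] (f : D →ₐ[A] D') {P : Polynomial D} (hP : IsCh P) :
    rr (CGrpSh2.dualSh Kf (CGrpSh2.Ga Kf S)) (qmap j f) (dS (phiP j hP)) = dS (phiP j (hP.map f.toRingHom)) := by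
  refine congrArg dS (?_ : (show (CGrpSh2.Ga Kf S).over (QA j D') ⟶ (CGrpSh2.Gm Kf S).over (QA j D') from
    rr (CGrpSh2.dualSh Kf (CGrpSh2.Ga Kf S)) (qmap j f) (dS (phiP j hP))) = _)
  refine hom_ext_val fun W g q => ?_
  rw [val_phiP, val, appS_rr_dS]
  refine (val_phiP hP (g ≫ qmap j f) q).trans ?_
  rw [psi_qmap, Polynomial.eval₂_map]

theorem phiP_mul {P Q : Polynomial D} (hP : IsCh P) (hQ : IsCh Q) :
    phiP j (hP.mul hQ) = phiP j hP + phiP j hQ := hom_ext_val fun W g q => by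
  rw [val_phiP, Polynomial.eval₂_mul, ← val_phiP hP, ← val_phiP hQ, val, val, val, appS_add, gF_add]

theorem phiP_congr {P Q : Polynomial D} (hP : IsCh P) (hQ : IsCh Q) (h : P = Q) : phiP j hP = phiP j hQ := by
  subst h; rfl

variable (j D) in
/-- The value of a bidual section at a character. -/
def famF (Φ : (CGrpSh2.dualSh Kf (CGrpSh2.Ga Kf S)).over (Over.mk j) ⟶ (CGrpSh2.Gm Kf S).over (Over.mk j))
    {P : Polynomial D} (hP : IsCh P) : D :=
  fn j D (gF (appS Φ (st j D) (dS (phiP j hP))))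

theorem famF_congr (Φ : (CGrpSh2.dualSh Kf (CGrpSh2.Ga Kf S)).over (Over.mk j) ⟶ (CGrpSh2.Gm Kf S).over (Over.mk j))
    {P Q : Polynomial D} (hP : IsCh P) (hQ : IsCh Q) (h : P = Q) : famF j D Φ hP = famF j D Φ hQ := by
  subst h; rfl

variable (j) in
/-- The natural family of a bidual section. -/
def famOf (Φ : (CGrpSh2.dualSh Kf (CGrpSh2.Ga Kf S)).over (Over.mk j) ⟶ (CGrpSh2.Gm Kf S).over (Over.mk j)) : Fam A where
  F D _ _ P := open Classical in if h : IsCh P then famF j D Φ h else 0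
  nat {D D'} _ _ _ _ f P hP := by
    classical
    rw [dif_pos hP, dif_pos (hP.map f.toRingHom), famF, famF, ← fn_app j f, ← gF_rr, rr_appS, qmap_st, map_phiP]
  mul {D} _ _ P Q hP hQ := by
    classical
    rw [dif_pos hP, dif_pos hQ, dif_pos (hP.mul hQ), famF, famF, famF, ← map_mul, ← gF_add, phiP_mul hP hQ, dS_add,
      map_add]
  one {D} _ _ := by
    classical
    rw [dif_pos IsCh.one]
    have h : famF j D Φ (IsCh.one (D := D)) * famF j D Φ IsCh.one = famF j D Φ (IsCh.one (D := D)) * 1 := by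
      rw [_root_.mul_one]
      refine Eq.trans ?_ (famF_congr Φ (IsCh.one.mul IsCh.one) IsCh.one (_root_.one_mul 1))
      rw [famF, famF, ← map_mul, ← gF_add, phiP_mul IsCh.one IsCh.one, dS_add, map_add]
    exact ((gF_isUnit _).map (fn j D)).mul_left_cancel h

/-- The double dual map of the additive group on sections. -/
def bid (T : Over S) (q : T ⟶ Red.Ga S) :
    (CGrpSh2.dualSh Kf (CGrpSh2.Ga Kf S)).over T ⟶ (CGrpSh2.Gm Kf S).over T :=
  (CGrpSh2.toDoubleDual Kf (CGrpSh2.Ga Kf S)).hom.app (op T) (pE q)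

theorem bid_app {T : Over S} (q : T ⟶ Red.Ga S) {W : Over S} (g : W ⟶ T)
    (φ : (CGrpSh2.Ga Kf S).over W ⟶ (CGrpSh2.Gm Kf S).over W) :
    gF (appS (bid T q) g (dS φ)) = val φ (𝟙 W) (g ≫ q) := rfl

theorem famF_bid (q : Over.mk j ⟶ Red.Ga S) {P : Polynomial D} (hP : IsCh P) :
    famF j D (bid (Over.mk j) q) hP =
      P.eval (algebraMap A D ((Scheme.ΓSpecIso (CommRingCat.of A)).hom (Red.gaFn q))) := by
  rw [famF, bid_app, val_phiP, psi_id, RedPts.ga_comp]
  refine (fn j D).symm.injective ((fn j D).symm_apply_apply _ |>.trans ?_)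
  refine Eq.trans ?_ (Polynomial.eval₂_at_apply ((fn j D).symm.toRingHom) _)
  refine congrArg (Polynomial.eval₂ _ · P) ?_
  have h := congr($(Scheme.ΓSpecIso_inv_naturality (CommRingCat.ofHom (algebraMap A D)))
    ((Scheme.ΓSpecIso (CommRingCat.of A)).hom (Red.gaFn q)))
  refine (Eq.trans h ?_).symm
  show (st j D).left.appTop ((Scheme.ΓSpecIso (CommRingCat.of A)).inv ((Scheme.ΓSpecIso (CommRingCat.of A)).hom (Red.gaFn q))) = _
  exact congrArg (st j D).left.appTop (ConcreteCategory.congr_hom (Scheme.ΓSpecIso (CommRingCat.of A)).hom_inv_id (Red.gaFn q))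

theorem zariski_cover {U : Over S} {em : Type u} (V : em → Over S) (f : ∀ i, V i ⟶ U)
    (hf : ∀ i, IsOpenImmersion (f i).left) (hs : ∀ x : U.left, ∃ i, x ∈ Set.range (f i).left) :
    Presieve.ofArrows (fun i => (V i).left) (fun i => (f i).left) ∈ (Kf).coverings U.left := by
  refine Scheme.zariskiPrecoverage_le_fppfPrecoverage _ ?_
  rw [Scheme.zariskiPrecoverage, Scheme.ofArrows_mem_precoverage_iff]
  exact ⟨hs, hf⟩

variable (j) in
theorem bid_surjective (hA : ∀ Φ : Fam A, ∃ t : A, ∀ (D : Type u) [CommRing D] [Algebra A D] (P : Polynomial D),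
      IsCh P → Φ.F D P = P.eval (algebraMap A D t))
    (Φ : (CGrpSh2.dualSh Kf (CGrpSh2.Ga Kf S)).over (Over.mk j) ⟶ (CGrpSh2.Gm Kf S).over (Over.mk j)) :
    ∃ q, bid (Over.mk j) q = Φ := by
  obtain ⟨t, ht⟩ := hA (famOf j Φ)
  refine ⟨RedPts.gaPt ((Scheme.ΓSpecIso (CommRingCat.of A)).inv t), ?_⟩
  set q : Over.mk j ⟶ Red.Ga S := RedPts.gaPt ((Scheme.ΓSpecIso (CommRingCat.of A)).inv t)
  have hfam : ∀ (D : Type u) [CommRing D] [Algebra A D] (P : Polynomial D) (hP : IsCh P),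
      famF j D (bid (Over.mk j) q) hP = famF j D Φ hP := fun D _ _ P hP => by
    classical
    rw [famF_bid, RedPts.gaFn_gaPt]
    have h := ht D P hP
    change (if h : IsCh P then famF j D Φ h else 0) = _ at h
    rw [dif_pos hP] at h
    rw [h]
    exact congrArg (fun z => P.eval (algebraMap A D z))
      (ConcreteCategory.congr_hom (Scheme.ΓSpecIso (CommRingCat.of A)).inv_hom_id t)
  refine Sheaf.hom_ext (NatTrans.ext (funext fun U => AddCommGrpCat.ext fun φ => ?_))
  -- charts of the test object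
  have hch : ∀ x : U.unop.left.left, ∃ (D : Type u) (_ : CommRing D) (_ : Algebra A D) (g : QA j D ⟶ U.unop.left),
      IsOpenImmersion g.left ∧ x ∈ Set.range g.left ∧ g ≫ U.unop.hom = st j D := fun x => by
    obtain ⟨V, hV, hxV, -⟩ := exists_isAffineOpen_mem_and_subset (show x ∈ (⊤ : U.unop.left.left.Opens) from trivial)
    let k : Spec Γ(U.unop.left.left, V) ⟶ Spec (CommRingCat.of A) := hV.fromSpec ≫ U.unop.hom.left
    letI : Algebra A Γ(U.unop.left.left, V) := (Spec.preimage k).hom.toAlgebra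
    have hk : Spec.map (CommRingCat.ofHom (algebraMap A Γ(U.unop.left.left, V))) = k := Spec.map_preimage k
    refine ⟨Γ(U.unop.left.left, V), inferInstance, inferInstance, Over.homMk hV.fromSpec ?_,
      (inferInstance : IsOpenImmersion hV.fromSpec), ?_, Over.OverMorphism.ext hk.symm⟩
    · show hV.fromSpec ≫ U.unop.left.hom = Spec.map _ ≫ j
      rw [hk, Category.assoc]
      exact congrArg (hV.fromSpec ≫ ·) (Over.w U.unop.hom).symm
    · show x ∈ Set.range hV.fromSpec
      rw [hV.range_fromSpec]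
      exact hxV
  choose D _ _ g hg hmem hst using hch
  refine eq_of_cover (CGrpSh2.Gm Kf S) (fun x => QA j (D x)) g
    (zariski_cover _ _ hg fun x => ⟨x, hmem x⟩) fun x => ?_
  obtain ⟨φ₀, hφ₀⟩ := dS_surjective (W := U.unop.left) φ
  rw [hφ₀]
  show rr (CGrpSh2.Gm Kf S) (g x) (appS (bid (Over.mk j) q) U.unop.hom (dS φ₀)) =
    rr (CGrpSh2.Gm Kf S) (g x) (appS Φ U.unop.hom (dS φ₀))
  rw [rr_appS, rr_appS, hst]
  obtain ⟨φ', hφ'⟩ := dS_surjective (rr (CGrpSh2.dualSh Kf (CGrpSh2.Ga Kf S)) (g x) (dS φ₀))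
  rw [hφ', eq_phiP φ']
  exact gF_inj ((fn j (D x)).injective (hfam (D x) _ (isCh_chP φ')))

variable (j) in
theorem bid_injective (hA : ∀ t t' : A, (∀ (D : Type u) [CommRing D] [Algebra A D] (P : Polynomial D), IsCh P →
      P.eval (algebraMap A D t) = P.eval (algebraMap A D t')) → t = t')
    {q q' : Over.mk j ⟶ Red.Ga S} (h : bid (Over.mk j) q = bid (Over.mk j) q') : q = q' := by
  refine RedPts.ga_injective ((Scheme.ΓSpecIso (CommRingCat.of A)).commRingCatIsoToRingEquiv.injective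
    (hA _ _ fun D _ _ P hP => ?_))
  have h1 : famF j D (bid (Over.mk j) q) hP = famF j D (bid (Over.mk j) q') hP := by rw [h]
  rw [famF_bid, famF_bid] at h1
  exact h1

/-- A map of sheaves which is bijective on enough affine charts is an isomorphism. -/
theorem isIso_of_bijective_charts {F G : BigSite.Ab Kf S} (f : F ⟶ G)
    (hch : ∀ (T : Over S) (x : T.left), ∃ (V : Over S) (g : V ⟶ T), IsOpenImmersion g.left ∧ x ∈ Set.range g.left ∧
      Function.Bijective (sap f V)) : IsIso f := by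
  choose V g hg hmem hbij using hch
  have hcov : ∀ T : Over S, Presieve.ofArrows (fun x => (V T x).left) (fun x => (g T x).left) ∈
      (Kf).coverings T.left := fun T => zariski_cover _ _ (hg T) fun x => ⟨x, hmem T x⟩
  have hinj : ∀ T : Over S, Function.Injective (sap f T) := fun T z z' h => by
    refine eq_of_cover F (V T) (g T) (hcov T) fun x => (hbij T x).1 ?_
    rw [sap_rr, sap_rr, h]
  have hsurj : ∀ T : Over S, Function.Surjective (sap f T) := fun T Φ => by
    choose y hy using fun x => (hbij T x).2 (rr G (g T x) Φ)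
    obtain ⟨t, ht⟩ := exists_glue F (V T) (g T) (hcov T) y
      (fun a b Z ga gb hab => hinj Z (by rw [sap_rr, sap_rr, hy, hy, ← rr_comp, ← rr_comp, hab]))
    refine ⟨t, eq_of_cover G (V T) (g T) (hcov T) fun x => ?_⟩
    rw [← sap_rr, ht, hy]
  haveI : ∀ U, IsIso (f.hom.app U) := fun U =>
    (ConcreteCategory.isIso_iff_bijective (f.hom.app U)).2 ⟨hinj U.unop, hsurj U.unop⟩
  haveI : IsIso ((sheafToPresheaf (QuotSh.J Kf S) AddCommGrpCat.{u + 1}).map f) := NatIso.isIso_of_isIso_app f.hom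
  exact isIso_of_reflects_iso f (sheafToPresheaf (QuotSh.J Kf S) AddCommGrpCat.{u + 1})

theorem sap_toDoubleDual (T : Over S) (q : T ⟶ Red.Ga S) :
    sap (CGrpSh2.toDoubleDual Kf (CGrpSh2.Ga Kf S)) T (pE q) = dS (bid T q) := rfl

variable (j) in
theorem bijective_chart (h1 : ∀ Φ : Fam A, ∃ t : A, ∀ (D : Type u) [CommRing D] [Algebra A D] (P : Polynomial D),
      IsCh P → Φ.F D P = P.eval (algebraMap A D t))
    (h2 : ∀ t t' : A, (∀ (D : Type u) [CommRing D] [Algebra A D] (P : Polynomial D), IsCh P →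
      P.eval (algebraMap A D t) = P.eval (algebraMap A D t')) → t = t') :
    Function.Bijective (sap (CGrpSh2.toDoubleDual Kf (CGrpSh2.Ga Kf S)) (Over.mk j)) := by
  refine ⟨fun z z' h => ?_, fun x => ?_⟩
  · obtain ⟨q, rfl⟩ := exists_pE z
    obtain ⟨q', rfl⟩ := exists_pE z'
    rw [sap_toDoubleDual, sap_toDoubleDual] at h
    rw [bid_injective j h2 h]
  · obtain ⟨Φ, hΦ⟩ := dS_surjective x
    obtain ⟨q, hq⟩ := bid_surjective j h1 Φ
    exact ⟨pE q, by rw [sap_toDoubleDual, hq, hΦ]⟩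

/-- Biduality holds when it holds on affine charts. -/
theorem isIso_toDoubleDual_of_charts
    (hA : ∀ (T : Over S) (V : T.left.Opens), Nonempty V → IsAffineOpen V →
      (∀ Φ : Fam Γ(T.left, V), ∃ t : Γ(T.left, V), ∀ (D : Type u) [CommRing D] [Algebra Γ(T.left, V) D] (P : Polynomial D),
        IsCh P → Φ.F D P = P.eval (algebraMap Γ(T.left, V) D t)) ∧
      (∀ t t' : Γ(T.left, V), (∀ (D : Type u) [CommRing D] [Algebra Γ(T.left, V) D] (P : Polynomial D), IsCh P →
        P.eval (algebraMap Γ(T.left, V) D t) = P.eval (algebraMap Γ(T.left, V) D t')) → t = t')) :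
    IsIso (CGrpSh2.toDoubleDual Kf (CGrpSh2.Ga Kf S)) := by
  refine isIso_of_bijective_charts _ fun T x => ?_
  obtain ⟨V, hV, hxV, -⟩ := exists_isAffineOpen_mem_and_subset (show x ∈ (⊤ : T.left.Opens) from trivial)
  obtain ⟨h1, h2⟩ := hA T V ⟨⟨x, hxV⟩⟩ hV
  refine ⟨Over.mk (hV.fromSpec ≫ T.hom), Over.homMk hV.fromSpec rfl,
    (inferInstance : IsOpenImmersion hV.fromSpec), ?_, bijective_chart (A := Γ(T.left, V)) (hV.fromSpec ≫ T.hom) h1 h2⟩
  show x ∈ Set.range hV.fromSpec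
  rw [hV.range_fromSpec]
  exact hxV

/-- Biduality of the additive group in characteristic `p`. -/
theorem isIso_toDoubleDual_charP (S : Scheme.{u}) (p : ℕ) [Fact p.Prime] (hp : (p : Γ(S, ⊤)) = 0) :
    IsIso (CGrpSh2.toDoubleDual Kf (CGrpSh2.Ga Kf S)) := by
  refine isIso_toDoubleDual_of_charts fun T V hne hV => ?_
  haveI : CharP Γ(T.left, V) p := ringChar.of_eq (CharP.ringChar_of_prime_eq_zero Fact.out (by
    have h1 := congrArg (fun z => T.left.presheaf.map (homOfLE (le_top : V ≤ ⊤)).op (T.hom.appTop z)) hp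
    simpa using h1))
  exact ⟨exists_eval_charP, eval_injective_charP (p := p)⟩

/-- Biduality of the additive group over the rationals. -/
theorem isIso_toDoubleDual_rat (S : Scheme.{u}) (hQ : ∀ n : ℕ, 0 < n → IsUnit ((n : Γ(S, ⊤)))) :
    IsIso (CGrpSh2.toDoubleDual Kf (CGrpSh2.Ga Kf S)) := by
  refine isIso_toDoubleDual_of_charts fun T V hne hV => ?_
  let f : Γ(S, ⊤) →+* Γ(T.left, V) := (T.hom.appTop ≫ T.left.presheaf.map (homOfLE (le_top : V ≤ ⊤)).op).hom
  haveI : CharZero Γ(T.left, V) := charZero_of_inj_zero fun n hn => by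
    by_contra h0
    have h1 := (hQ n (Nat.pos_of_ne_zero h0)).map f
    rw [map_natCast, hn] at h1
    exact not_isUnit_zero h1
  haveI : Nontrivial Γ(T.left, V) := inferInstance
  obtain ⟨φ⟩ : Nonempty (ℚ →+* Γ(T.left, V)) := by
    have hu : ∀ z : nonZeroDivisors ℤ, IsUnit ((Int.castRingHom Γ(T.left, V)) (z : ℤ)) := fun z => by
      have hz : (z : ℤ) ≠ 0 := nonZeroDivisors.coe_ne_zero z
      obtain ⟨n, hn⟩ := Int.eq_nat_or_neg (z : ℤ)
      have hn0 : 0 < n := Nat.pos_of_ne_zero fun h => hz (by rcases hn with hn | hn <;> simp [hn, h])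
      have h1 := (hQ n hn0).map f
      rw [map_natCast] at h1
      rcases hn with hn | hn
      · simpa [hn] using h1
      · simpa [hn] using h1.neg
    exact ⟨IsLocalization.lift (M := nonZeroDivisors ℤ) (S := ℚ) hu⟩
  letI : Algebra ℚ Γ(T.left, V) := φ.toAlgebra
  exact ⟨exists_eval_rat, eval_injective_rat⟩

end Groth.Agent.GaBid87
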